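import Cfsg.Agent.H0.TCHe1.D
set_option maxRecDepth 100000
namespace H0.TCHe1
open H0
theorem k6 : TC.chkRange C 468 78 = true := by decide +kernel
theorem k7 : TC.chkRange C 546 78 = true := by decide +kernel
theorem k8 : TC.chkRange C 624 78 = true := by decide +kernel
theorem k9 : TC.chkRange C 702 78 = true := by decide +kernel
theorem k10 : TC.chkRange C 780 9 = true := by decide +kernel
end H0.TCHe1
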